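import Mathlib

/-!
# Transvection elements over a prime field

Unipotent elements, commuting transvections, and powers of transvections.
-/

set_option autoImplicit false

namespace CfsgLib.Perm.Transv

open Module

variable {p : ℕ} [Fact p.Prime] {V : Type*} [AddCommGroup V] [Module (ZMod p) V]

/-- A non-trivial transvection. -/
def IsTv (t : V ≃ₗ[ZMod p] V) : Prop :=
  ∃ (v : V) (φ : Dual (ZMod p) V), v ≠ 0 ∧ φ ≠ 0 ∧ φ v = 0 ∧ ∀ x, t x = x + φ x • v

theorem IsTv.apply_sub {t : V ≃ₗ[ZMod p] V} (ht : IsTv t) :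
    ∃ (v : V) (φ : Dual (ZMod p) V), v ≠ 0 ∧ φ ≠ 0 ∧ φ v = 0 ∧ ∀ x, t x - x = φ x • v := by
  obtain ⟨v, φ, hv, hφ, h, e⟩ := ht
  exact ⟨v, φ, hv, hφ, h, fun x => by rw [e, add_sub_cancel_left]⟩

/-- An element with a three-step series has order dividing `p`, for odd `p`. -/
theorem pow_eq_one_of_series (hp : Odd p) (g : V ≃ₗ[ZMod p] V)
    (h : ∀ x, g (g (g x - x) - (g x - x)) = g (g x - x) - (g x - x)) : g ^ p = 1 := by
  let N : V →ₗ[ZMod p] V := (g : V →ₗ[ZMod p] V) - LinearMap.id
  have hg : ∀ x, g x = x + N x := fun x => by simp [N]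
  have hN3 : ∀ x, N (N (N x)) = 0 := fun x => by
    have h' := h x
    simp only [N, LinearMap.sub_apply, LinearEquiv.coe_coe, LinearMap.id_apply, sub_eq_zero]
    exact h'
  have key : ∀ (n : ℕ) (x : V),
      (g ^ n) x = x + (n : ZMod p) • N x + ((n.choose 2 : ℕ) : ZMod p) • N (N x) := by
    intro n
    induction n with
    | zero => intro x; simp
    | succ n ih =>
      intro x
      rw [pow_succ]
      show (g ^ n) (g x) = _
      rw [ih, hg, Nat.choose_succ_succ' n 1, Nat.choose_one_right]
      simp only [map_add, hN3, add_zero, Nat.cast_add, Nat.cast_one]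
      module
  refine LinearEquiv.ext fun x => ?_
  have hc : ((p.choose 2 : ℕ) : ZMod p) = 0 := by
    rw [CharP.cast_eq_zero_iff (ZMod p) p]
    refine (Fact.out : p.Prime).dvd_choose_self two_ne_zero ?_
    have h2 := (Fact.out : p.Prime).two_le
    rcases hp with ⟨k, hk⟩
    omega
  rw [key, ZMod.natCast_self, hc]
  simp

/-- Two commuting transvections fix each other's centres. -/
theorem IsTv.fix_of_commute {s t : V ≃ₗ[ZMod p] V} (hs : IsTv s) (ht : IsTv t) (h : s * t = t * s)
    (x : V) : s (t x - x) = t x - x := by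
  obtain ⟨v, φ, hv, hφ, hφv, et⟩ := ht.apply_sub
  obtain ⟨w, ψ, hw, -, hψw, es⟩ := hs.apply_sub
  suffices hsv : s v = v by rw [et, map_smul, hsv]
  obtain ⟨x₀, hx₀⟩ : ∃ x₀, φ x₀ ≠ 0 := by
    by_contra hc; push Not at hc; exact hφ (LinearMap.ext hc)
  have e : φ x₀ • s v = φ (s x₀) • v := by
    rw [← map_smul, ← et, ← et, map_sub]
    exact congrArg (· - s x₀) (LinearEquiv.congr_fun h x₀)
  by_contra hne
  have hψv : ψ v ≠ 0 := fun e0 => hne (by
    have := es v; rwa [e0, zero_smul, sub_eq_zero] at this)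
  have e2 : (φ x₀ * ψ v) • w = (φ (s x₀) - φ x₀) • v := by
    rw [mul_smul, ← es v, smul_sub, e, sub_smul]
  have e3 : (φ (s x₀) - φ x₀) * ψ v = 0 := by
    have := congrArg ψ e2
    rw [map_smul, map_smul, hψw, smul_zero] at this
    exact this.symm
  rw [sub_eq_zero.1 (show φ (s x₀) - φ x₀ = 0 from (mul_eq_zero.1 e3).resolve_right hψv), sub_self,
    zero_smul] at e2
  exact hw ((smul_eq_zero.1 e2).resolve_left (mul_ne_zero hx₀ hψv))

/-- An element of order `p` fixing a hyperplane is a transvection. -/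
theorem isTv_of_orderOf [Finite V] {t : V ≃ₗ[ZMod p] V} (ho : orderOf t = p)
    (hker : finrank (ZMod p) (LinearMap.ker ((t : V →ₗ[ZMod p] V) - LinearMap.id)) + 1 = finrank (ZMod p) V) :
    IsTv t := by
  let N : V →ₗ[ZMod p] V := (t : V →ₗ[ZMod p] V) - LinearMap.id
  have hN : finrank (ZMod p) (LinearMap.range N) = 1 := by
    have := LinearMap.finrank_range_add_finrank_ker N
    simp only [N] at this ⊢
    omega
  obtain ⟨v, hv0, hv⟩ := finrank_eq_one_iff'.1 hN
  have hv' : (v : V) ≠ 0 := fun e => hv0 (Subtype.ext e)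
  choose c hc using fun x => hv ⟨N x, ⟨x, rfl⟩⟩
  have hc' : ∀ x, c x • (v : V) = N x := fun x => congrArg Subtype.val (hc x)
  let φ : Dual (ZMod p) V :=
    { toFun := c
      map_add' := fun x y => smul_left_injective _ hv' (by
        show c (x + y) • (v : V) = (c x + c y) • (v : V)
        rw [add_smul, hc', hc', hc', map_add])
      map_smul' := fun a x => smul_left_injective _ hv' (by
        show c (a • x) • (v : V) = (a * c x) • (v : V)
        rw [mul_smul, hc', hc', map_smul]) }
  have et : ∀ x, t x = x + φ x • (v : V) := fun x => by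
    show t x = x + c x • (v : V)
    rw [hc']; simp [N]
  have ht1 : t ≠ 1 := fun e => by
    rw [e, orderOf_one] at ho; exact (Fact.out : p.Prime).one_lt.ne ho
  refine ⟨v, φ, hv', fun e => ht1 (LinearEquiv.ext fun x => ?_), ?_, et⟩
  · rw [et, e, LinearMap.zero_apply, zero_smul, add_zero]; rfl
  · have key : ∀ n : ℕ, (t ^ n) (v : V) = (1 + φ v) ^ n • (v : V) := by
      intro n
      induction n with
      | zero => simp
      | succ n ih =>
        rw [pow_succ]
        show (t ^ n) (t (v : V)) = _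
        rw [et (v : V), show (v : V) + φ v • (v : V) = (1 + φ v) • (v : V) by rw [add_smul, one_smul],
          map_smul, ih, smul_smul, ← pow_succ']
    have hp1 := key p
    have htp : t ^ p = 1 := by
      have h1 := pow_orderOf_eq_one t
      rwa [ho] at h1
    rw [htp, ZMod.pow_card] at hp1
    have : φ v • (v : V) = 0 := by
      rw [add_smul, one_smul] at hp1
      exact (left_eq_add.1 hp1)
    exact (smul_eq_zero.1 this).resolve_right hv'

end CfsgLib.Perm.Transv
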