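import Mathlib

/-!
# Irreducible systems of transvections

A system of transvections `(v, φ)`, `φ v = 0`, closed under the elementary operations and
irreducible, over a field of characteristic not two, consists of all transvections or of the
transvections of a non-degenerate alternating form.  This is the linear algebra behind McLaughlin's
theorem.
-/

set_option autoImplicit false

namespace CfsgLib.Perm.Transv

open Module Submodule

/-- A system of transvections. -/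
structure Sys (K U : Type*) [Field K] [AddCommGroup U] [Module K U] where
  /-- The pairs. -/
  Rt : U → Dual K U → Prop
  apply_eq_zero : ∀ {v : U} {φ : Dual K U}, Rt v φ → φ v = 0
  zero_right : ∀ v, Rt v 0
  smul_left : ∀ {v : U} {φ : Dual K U} (c : K), Rt v φ → Rt (c • v) φ
  smul_right : ∀ {v : U} {φ : Dual K U} (c : K), Rt v φ → Rt v (c • φ)
  add_left : ∀ {v w : U} {φ : Dual K U}, Rt v φ → Rt w φ → Rt (v + w) φ
  add_right : ∀ {v : U} {φ ψ : Dual K U}, Rt v φ → Rt v ψ → Rt v (φ + ψ)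
  conj : ∀ {v w : U} {φ ψ : Dual K U}, Rt v φ → Rt w ψ → Rt (w + φ w • v) (ψ - ψ v • φ)
  irr : ∀ X : Submodule K U, (∀ v φ, Rt v φ → ∀ x ∈ X, φ x • v ∈ X) →
    X = ⊤ ∨ ∀ v φ, Rt v φ → ∀ x ∈ X, φ x • v = 0
  nondeg : ∀ {v : U} {φ : Dual K U}, Rt v φ → v ≠ 0 → φ ≠ 0 → ∃ w ψ, Rt w ψ ∧ w ≠ 0 ∧ ψ v ≠ 0
  exists_root : ∃ v φ, Rt v φ ∧ v ≠ 0 ∧ φ ≠ 0

variable {K U : Type*} [Field K] [AddCommGroup U] [Module K U] (S : Sys K U)

namespace Sys

/-- The functionals attached to a centre. -/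
def A (v : U) : Submodule K (Dual K U) where
  carrier := {φ | S.Rt v φ}
  add_mem' h h' := S.add_right h h'
  zero_mem' := S.zero_right v
  smul_mem' c _ h := S.smul_right c h

theorem mem_A {v : U} {φ : Dual K U} : φ ∈ S.A v ↔ S.Rt v φ := Iff.rfl

theorem A_self {v : U} {φ : Dual K U} (h : φ ∈ S.A v) : φ v = 0 := S.apply_eq_zero h

theorem A_smul {c : K} (hc : c ≠ 0) (v : U) : S.A (c • v) = S.A v := by
  ext φ
  refine ⟨fun h => ?_, S.smul_left c⟩
  have := S.smul_left c⁻¹ h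
  rwa [smul_smul, inv_mul_cancel₀ hc, one_smul] at this

theorem bcase {v w : U} {φ ψ : Dual K U} (hφ : φ ∈ S.A v) (hψ : ψ ∈ S.A w) (h1 : φ w ≠ 0)
    (h2 : ψ v = 0) : ψ ∈ S.A v := by
  have h := S.conj hψ hφ
  rw [h2, zero_smul, add_zero] at h
  have h' : φ - φ w • ψ ∈ S.A v := h
  have : φ w • ψ ∈ S.A v := by simpa using sub_mem hφ h'
  simpa [smul_smul, inv_mul_cancel₀ h1] using (S.A v).smul_mem (φ w)⁻¹ this

variable [FiniteDimensional K U]

theorem finrank_conj {v : U} {φ : Dual K U} (hφ : φ ∈ S.A v) (w : U) :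
    finrank K (S.A w) ≤ finrank K (S.A (w + φ w • v)) := by
  let f : S.A w →ₗ[K] S.A (w + φ w • v) :=
    { toFun := fun ψ => ⟨(ψ : Dual K U) - (ψ : Dual K U) v • φ, S.conj hφ ψ.2⟩
      map_add' := fun a b => by
        ext x; simp only [Submodule.coe_add, LinearMap.add_apply, LinearMap.sub_apply,
          LinearMap.smul_apply, smul_eq_mul]; ring
      map_smul' := fun c a => by
        ext x; simp only [Submodule.coe_smul, LinearMap.smul_apply, LinearMap.sub_apply,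
          smul_eq_mul, RingHom.id_apply]; ring }
  refine LinearMap.finrank_le_finrank_of_injective (f := f) fun ψ χ h => ?_
  have h1 : (ψ : Dual K U) - (ψ : Dual K U) v • φ = (χ : Dual K U) - (χ : Dual K U) v • φ :=
    congrArg Subtype.val h
  have h2 := LinearMap.congr_fun h1 v
  simp [S.A_self hφ] at h2
  rw [h2, sub_left_inj] at h1
  exact Subtype.ext h1

/-- Centres with the largest space of functionals. -/
def IsMax (v : U) : Prop := v ≠ 0 ∧ S.A v ≠ ⊥ ∧ ∀ w, w ≠ 0 → finrank K (S.A w) ≤ finrank K (S.A v)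

/-- Some functional of `v` moves `w`. -/
def Adj (v w : U) : Prop := ∃ φ ∈ S.A v, φ w ≠ 0

variable {S}

theorem IsMax.of_le {v w : U} (hv : S.IsMax v) (hw : w ≠ 0)
    (h : finrank K (S.A v) ≤ finrank K (S.A w)) : S.IsMax w := by
  refine ⟨hw, fun e => hv.2.1 ?_, fun x hx => (hv.2.2 x hx).trans h⟩
  rw [e, finrank_bot] at h
  exact finrank_eq_zero.1 (Nat.le_zero.1 h)

theorem IsMax.smul {v : U} (hv : S.IsMax v) {c : K} (hc : c ≠ 0) : S.IsMax (c • v) :=
  hv.of_le (smul_ne_zero hc hv.1) (by rw [S.A_smul hc])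

theorem IsMax.finrank_eq {v w : U} (hv : S.IsMax v) (hw : S.IsMax w) :
    finrank K (S.A v) = finrank K (S.A w) := le_antisymm (hw.2.2 v hv.1) (hv.2.2 w hw.1)

theorem IsMax.step {v : U} (hv : S.IsMax v) {w : U} {ψ : Dual K U} (hw : w ≠ 0) (hψ : ψ ∈ S.A w)
    (h : ψ v ≠ 0) : S.Adj v w ∧ S.IsMax w := by
  have hadj : S.Adj v w := by
    by_contra hc
    simp only [Adj, not_exists, not_and, not_not] at hc
    have hle : S.A v ≤ S.A w := fun φ hφ => S.bcase hψ hφ h (hc φ hφ)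
    have hlt : S.A v < S.A w := lt_of_le_of_ne hle fun e => h (S.A_self (e ▸ hψ))
    have := Submodule.finrank_lt_finrank_of_lt hlt
    have := hv.2.2 w hw
    omega
  obtain ⟨φ, hφ, h1⟩ := hadj
  refine ⟨⟨φ, hφ, h1⟩, ?_⟩
  set x := v + ψ v • w
  have hx : finrank K (S.A v) ≤ finrank K (S.A x) := S.finrank_conj hψ v
  have hφx : φ x = ψ v * φ w := by simp [x, S.A_self hφ]
  have hy := S.finrank_conj (φ := (-(φ x)⁻¹) • φ) ((S.A v).smul_mem _ hφ) x
  have hne : φ x ≠ 0 := by rw [hφx]; exact mul_ne_zero h h1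
  have he : x + ((-(φ x)⁻¹) • φ) x • v = ψ v • w := by
    simp only [LinearMap.smul_apply, smul_eq_mul, neg_mul, inv_mul_cancel₀ hne, neg_smul, one_smul, x]
    abel
  rw [he, S.A_smul h] at hy
  exact hv.of_le hw (hx.trans hy)

theorem Adj.symm {v w : U} (hv : S.IsMax v) (hw : S.IsMax w) (h : S.Adj v w) : S.Adj w v := by
  obtain ⟨φ, hφ, h1⟩ := h
  exact (hw.step hv.1 hφ h1).1

theorem Adj.ne_zero {v w : U} (h : S.Adj v w) : w ≠ 0 := by
  obtain ⟨φ, -, h1⟩ := h
  rintro rfl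
  exact h1 (map_zero φ)

theorem inter_le {v w : U} (hv : S.IsMax v) (hw : S.IsMax w) (h : S.Adj v w) {φ : Dual K U}
    (hφ : φ ∈ S.A v) (h1 : φ w = 0) : φ ∈ S.A w := by
  obtain ⟨ψ, hψ, h2⟩ := Adj.symm hv hw h
  exact S.bcase hψ hφ h2 h1

/-- The line through two adjacent centres consists of maximal centres. -/
theorem plane {v w : U} (hv : S.IsMax v) (hw : S.IsMax w) (h : S.Adj v w) {a b : K}
    (hne : a • v + b • w ≠ 0) : S.IsMax (a • v + b • w) := by
  by_cases ha : a = 0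
  · subst ha
    have hb : b ≠ 0 := by rintro rfl; simp at hne
    simpa using hw.smul hb
  obtain ⟨ψ, hψ, h2⟩ := Adj.symm hv hw h
  have e : a • v + b • w = a • (v + ((b / (a * ψ v)) • ψ) v • w) := by
    simp only [LinearMap.smul_apply, smul_eq_mul, smul_add, smul_smul]
    congr 2
    field_simp
  rw [e]
  have h3 := S.finrank_conj (φ := (b / (a * ψ v)) • ψ) ((S.A w).smul_mem _ hψ) v
  refine (hv.of_le ?_ h3).smul ha
  intro h0
  apply hne
  rw [e, h0, smul_zero]

variable (S) [Finite U]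

theorem exists_isMax : ∃ v, S.IsMax v := by
  classical
  letI := Fintype.ofFinite U
  obtain ⟨v₁, φ₁, h, hv₁, hφ₁⟩ := S.exists_root
  obtain ⟨v, hv, hmax⟩ := Finset.exists_max_image (Finset.univ.filter fun v : U => v ≠ 0)
    (fun v => finrank K (S.A v)) ⟨v₁, by simp [hv₁]⟩
  simp only [Finset.mem_filter, Finset.mem_univ, true_and] at hv hmax
  refine ⟨v, hv, fun e => hφ₁ ?_, hmax⟩
  have h1 := hmax v₁ hv₁
  rw [e, finrank_bot, Nat.le_zero, finrank_eq_zero] at h1
  exact (Submodule.eq_bot_iff _).1 h1 φ₁ h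

variable {S}

theorem IsMax.exists_adj {v : U} (hv : S.IsMax v) : ∃ w, S.IsMax w ∧ S.Adj v w := by
  obtain ⟨φ, hφ, h⟩ := (Submodule.ne_bot_iff _).1 hv.2.1
  obtain ⟨w, ψ, hψ, hw, h1⟩ := S.nondeg hφ hv.1 h
  obtain ⟨h2, h3⟩ := hv.step hw hψ h1
  exact ⟨w, h3, h2⟩

/-- The centres within distance two of `v`. -/
def Near (v : U) : Set U := {z | S.IsMax z ∧ ∃ u, S.IsMax u ∧ S.Adj v u ∧ (u = z ∨ S.Adj u z)}

theorem near_closed {v : U} (hv : S.IsMax v) {z y : U} (hz : z ∈ Near (S := S) v) (hy : S.IsMax y)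
    (h : S.Adj z y) : y ∈ Near (S := S) v := by
  obtain ⟨hzm, u, hum, hvu, rfl | huz⟩ := hz
  · exact ⟨hy, u, hum, hvu, Or.inr h⟩
  by_cases hvz : S.Adj v z
  · exact ⟨hy, z, hzm, hvz, Or.inr h⟩
  by_cases huy : S.Adj u y
  · exact ⟨hy, u, hum, hvu, Or.inr huy⟩
  simp only [Adj, not_exists, not_and, not_not] at hvz huy
  obtain ⟨φ, hφ, h1⟩ := hvu
  have h1' : φ (u + z) ≠ 0 := by rw [map_add, hvz φ hφ, add_zero]; exact h1
  have hne : u + z ≠ 0 := fun e => h1' (by rw [e, map_zero])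
  have hm : S.IsMax (u + z) := by
    simpa using plane hum hzm huz (a := 1) (b := 1) (by simpa using hne)
  obtain ⟨η, hη, h2⟩ := Adj.symm hzm hy h
  have h3 : η u = 0 := by
    by_contra hne'
    obtain ⟨ρ, hρ, h4⟩ := Adj.symm hy hum ⟨η, hη, hne'⟩
    exact h4 (huy ρ hρ)
  exact ⟨hy, u + z, hm, ⟨φ, hφ, h1'⟩, Or.inr (Adj.symm hy hm ⟨η, hη, by rw [map_add, h3, zero_add]; exact h2⟩)⟩

theorem mem_near_self {v : U} (hv : S.IsMax v) : v ∈ Near (S := S) v := by
  obtain ⟨w, hw, h⟩ := hv.exists_adj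
  exact ⟨hv, w, hw, h, Or.inr (Adj.symm hv hw h)⟩

theorem span_near {v : U} (hv : S.IsMax v) : span K (Near (S := S) v) = ⊤ := by
  refine (S.irr _ fun x η hη y hy => ?_).resolve_right fun h => ?_
  · induction hy using Submodule.span_induction with
    | mem y hy =>
      by_cases hx : η y • x = 0
      · rw [hx]; exact zero_mem _
      · rw [smul_eq_zero, not_or] at hx
        obtain ⟨h1, h2⟩ := hy.1.step hx.2 hη hx.1
        exact smul_mem _ _ (subset_span (near_closed hv hy h2 h1))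
    | zero => simp
    | add a b _ _ ha hb => rw [map_add, add_smul]; exact add_mem ha hb
    | smul c a _ ha => rw [map_smul, smul_eq_mul, mul_smul]; exact smul_mem _ _ ha
  · obtain ⟨w, hw, φ, hφ, h1⟩ := hv.exists_adj
    have hwn : w ∈ Near (S := S) v := ⟨hw, w, hw, ⟨φ, hφ, h1⟩, Or.inl rfl⟩
    exact smul_ne_zero h1 hv.1 (h v φ hφ w (subset_span hwn))

theorem exists_apply_ne_zero {v : U} (hv : S.IsMax v) {φ : Dual K U} (hφ : φ ≠ 0) :
    ∃ x, S.IsMax x ∧ φ x ≠ 0 := by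
  by_contra hc
  push Not at hc
  apply hφ
  exact LinearMap.ext_on (span_near hv) fun x hx => by simpa using hc x hx.1

/-- Two maximal centres are adjacent or have a common neighbour. -/
theorem connected {v z : U} (hv : S.IsMax v) (hz : S.IsMax z) :
    S.Adj v z ∨ ∃ u, S.IsMax u ∧ S.Adj v u ∧ S.Adj u z := by
  obtain ⟨φ, hφ, hne⟩ := (Submodule.ne_bot_iff _).1 hz.2.1
  obtain ⟨y, hy, h1⟩ : ∃ y ∈ Near (S := S) v, φ y ≠ 0 := by
    by_contra hc
    push Not at hc
    exact hne (LinearMap.ext_on (span_near hv) fun x hx => by simpa using hc x hx)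
  obtain ⟨-, u, hu, hvu, h⟩ := near_closed hv hy hz (Adj.symm hz hy.1 ⟨φ, hφ, h1⟩)
  rcases h with rfl | h
  · exact Or.inl hvu
  · exact Or.inr ⟨u, hu, hvu, h⟩

section Large

theorem inf_le_of_not_adj {v w u : U} (hv : S.IsMax v) (hw : S.IsMax w) (hu : S.IsMax u)
    (hvw : ¬ S.Adj v w) (hvu : S.Adj v u) (huw : S.Adj u w) {φ : Dual K U} (hφ : φ ∈ S.A v)
    (h : φ u = 0) : φ ∈ S.A w := by
  simp only [Adj, not_exists, not_and, not_not] at hvw
  exact inter_le hu hw huw (inter_le hv hu hvu hφ h) (hvw φ hφ)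

theorem adj_of_two_le {v w : U} (hv : S.IsMax v) (hw : S.IsMax w) (h2 : 2 ≤ finrank K (S.A v))
    (hind : ∀ c : K, w ≠ c • v) : S.Adj v w := by
  by_contra hvw
  obtain ⟨u, hu, hvu, huw⟩ := (connected hv hw).resolve_left hvw
  obtain ⟨φ, hφ, hφu⟩ := hvu
  -- a functional of `v` vanishing at `u`
  obtain ⟨φ₀, hφ₀, hφ₀u, hφ₀ne⟩ : ∃ φ₀ ∈ S.A v, φ₀ u = 0 ∧ φ₀ ≠ 0 := by
    by_contra hc
    push Not at hc
    have hle : S.A v ≤ K ∙ φ := fun χ hχ => by
      have h0 := hc (χ - (χ u / φ u) • φ) (sub_mem hχ ((S.A v).smul_mem _ hφ)) (by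
        simp [LinearMap.sub_apply, div_mul_cancel₀ _ hφu])
      exact Submodule.mem_span_singleton.2 ⟨χ u / φ u, (sub_eq_zero.1 h0).symm⟩
    have h1 := Submodule.finrank_mono hle
    have h3 := finrank_span_singleton (K := K) (v := φ) (fun e => hφu (by rw [e, LinearMap.zero_apply]))
    omega
  have hφ₀w : φ₀ ∈ S.A w := inf_le_of_not_adj hv hw hu hvw ⟨φ, hφ, hφu⟩ huw hφ₀ hφ₀u
  obtain ⟨x, hx, hφ₀x⟩ := exists_apply_ne_zero hv hφ₀ne
  have hle : S.A v ≤ S.A w := by
    intro χ hχ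
    have h1 : χ - (χ x / φ₀ x) • φ₀ ∈ S.A w :=
      inf_le_of_not_adj hv hw hx hvw ⟨φ₀, hφ₀, hφ₀x⟩ (Adj.symm hw hx ⟨φ₀, hφ₀w, hφ₀x⟩)
        (sub_mem hχ ((S.A v).smul_mem _ hφ₀)) (by simp [div_mul_cancel₀ _ hφ₀x])
    simpa using add_mem h1 ((S.A w).smul_mem (χ x / φ₀ x) hφ₀w)
  have heq : S.A v = S.A w := Submodule.eq_of_le_of_finrank_eq hle (hv.finrank_eq hw)
  obtain ⟨ψ, hψ, hψv⟩ := Adj.symm hv hu ⟨φ, hφ, hφu⟩
  set k := w + (-(ψ w / ψ v)) • v with hk
  have hkA : S.A v ≤ S.A k := fun χ hχ => S.add_left (heq ▸ hχ : χ ∈ S.A w) (S.smul_left _ hχ)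
  have hk0 : k ≠ 0 := fun e => hind (ψ w / ψ v) (by
    rw [hk, neg_smul, ← sub_eq_add_neg, sub_eq_zero] at e; exact e)
  have hkm : S.IsMax k := hv.of_le hk0 (Submodule.finrank_mono hkA)
  obtain ⟨η, hη, hηk⟩ := Adj.symm hkm hu ⟨φ, hkA hφ, hφu⟩
  apply hηk
  have h1 : η - (η v / ψ v) • ψ ∈ S.A v :=
    inter_le hu hv ⟨ψ, hψ, hψv⟩ (sub_mem hη ((S.A u).smul_mem _ hψ)) (by simp [div_mul_cancel₀ _ hψv])
  have h3 := S.A_self (heq ▸ h1)
  simp only [LinearMap.sub_apply, LinearMap.smul_apply, smul_eq_mul, sub_eq_zero] at h3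
  simp only [hk, map_add, map_smul, smul_eq_mul, h3]
  field_simp
  ring

end Large

/-- Vectors with closure under addition. -/
theorem isMax_all_of_add {v₀ : U} (hv₀ : S.IsMax v₀)
    (hadd : ∀ v w, S.IsMax v → S.IsMax w → v + w ≠ 0 → S.IsMax (v + w)) {z : U} (hz : z ≠ 0) :
    S.IsMax z := by
  let X : Submodule K U :=
    { carrier := {x | x = 0 ∨ S.IsMax x}
      add_mem' := by
        rintro a b (rfl | ha) hb
        · simpa using hb
        rcases hb with rfl | hb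
        · exact Or.inr (by simpa using ha)
        by_cases h : a + b = 0
        · exact Or.inl h
        · exact Or.inr (hadd a b ha hb h)
      zero_mem' := Or.inl rfl
      smul_mem' := by
        rintro c a (rfl | ha)
        · exact Or.inl (smul_zero c)
        by_cases hc : c = 0
        · exact Or.inl (by rw [hc, zero_smul])
        · exact Or.inr (ha.smul hc) }
  have hX : span K (Near (S := S) v₀) ≤ X := span_le.2 fun x hx => Or.inr hx.1
  rw [span_near hv₀] at hX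
  exact (hX (mem_top (x := z))).resolve_left hz

theorem add_isMax_of_two_le {v w : U} (hv : S.IsMax v) (hw : S.IsMax w) (h2 : 2 ≤ finrank K (S.A v))
    (hne : v + w ≠ 0) : S.IsMax (v + w) := by
  by_cases h : ∃ c : K, w = c • v
  · obtain ⟨c, rfl⟩ := h
    have e : v + c • v = (1 + c) • v := by rw [add_smul, one_smul]
    rw [e] at hne ⊢
    exact hv.smul fun e' => hne (by rw [e', zero_smul])
  · push Not at h
    simpa using plane hv hw (adj_of_two_le hv hw h2 h) (a := 1) (b := 1) (by simpa using hne)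

/-- With two functionals at one centre, all transvections are present. -/
theorem rt_all {v₀ : U} (hv₀ : S.IsMax v₀) (h2 : 2 ≤ finrank K (S.A v₀)) {v : U} (hv : v ≠ 0)
    {φ : Dual K U} (h : φ v = 0) : S.Rt v φ := by
  have hall : ∀ z : U, z ≠ 0 → S.IsMax z := fun z hz => isMax_all_of_add hv₀
    (fun a b ha hb => add_isMax_of_two_le ha hb (h2.trans_eq (hv₀.finrank_eq ha))) hz
  have hm := hall v hv
  have hco : (S.A v).dualCoannihilator ≤ K ∙ v := by
    intro w hw
    by_contra hcon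
    have hw0 : w ≠ 0 := by rintro rfl; exact hcon (zero_mem _)
    obtain ⟨χ, hχ, hχw⟩ := adj_of_two_le hm (hall w hw0) (h2.trans_eq (hv₀.finrank_eq hm))
      (fun c e => hcon (mem_span_singleton.2 ⟨c, e.symm⟩))
    exact hχw ((mem_dualCoannihilator w).1 hw χ hχ)
  have hA : φ ∈ (S.A v).dualCoannihilator.dualAnnihilator := by
    refine Submodule.dualAnnihilator_anti hco ((mem_dualAnnihilator φ).2 fun x hx => ?_)
    obtain ⟨c, rfl⟩ := mem_span_singleton.1 hx
    simp [h]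
  rwa [Subspace.dualCoannihilator_dualAnnihilator_eq] at hA

section Thin

variable (h1 : ∀ v, S.IsMax v → finrank K (S.A v) = 1)

include h1 in
theorem eq_smul_of_mem {v : U} (hv : S.IsMax v) {φ ψ : Dual K U} (hφ : φ ∈ S.A v) (hne : φ ≠ 0)
    (hψ : ψ ∈ S.A v) : ∃ c : K, ψ = c • φ := by
  obtain ⟨c, hc⟩ := (finrank_eq_one_iff_of_nonzero' (⟨φ, hφ⟩ : S.A v)
    (fun e => hne (congrArg Subtype.val e))).1 (h1 v hv) ⟨ψ, hψ⟩
  exact ⟨c, (congrArg Subtype.val hc).symm⟩

include h1 in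
/-- The functional at a point of the line through two adjacent centres. -/
theorem comb_mem {v x : U} (hv : S.IsMax v) (hx : S.IsMax x) {φ η : Dual K U} (hφ : φ ∈ S.A v)
    (hη : η ∈ S.A x) (hφx : φ x ≠ 0) (hηv : η v = -φ x) (s : K) :
    S.IsMax (v + s • x) ∧ φ + s • η ∈ S.A (v + s • x) := by
  have hc : (s / η v) • η ∈ S.A x := (S.A x).smul_mem _ hη
  have h2 : η v ≠ 0 := by rw [hηv]; exact neg_ne_zero.2 hφx
  have h3 := S.conj hc hφ
  have e1 : ((s / η v) • η) v = s := by simp [div_mul_cancel₀ _ h2]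
  have e2 : φ - φ x • ((s / η v) • η) = φ + s • η := by
    rw [smul_smul, hηv, show φ x * (s / -φ x) = -s by field_simp, neg_smul, sub_neg_eq_add]
  rw [e1, e2] at h3
  refine ⟨hv.of_le ?_ ?_, h3⟩
  · intro e
    have := congrArg φ e
    rw [map_add, map_smul, S.A_self hφ, zero_add, smul_eq_mul, map_zero, mul_eq_zero] at this
    rcases this with rfl | h
    · rw [zero_smul, add_zero] at e; exact hv.1 e
    · exact hφx h
  · have := S.finrank_conj hc v
    rwa [e1] at this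

theorem symm_zero {v w : U} (hv : S.IsMax v) (hw : S.IsMax w) (h : ∀ χ ∈ S.A w, χ v = 0)
    {φ : Dual K U} (hφ : φ ∈ S.A v) : φ w = 0 := by
  by_contra hne
  obtain ⟨χ, hχ, h'⟩ := Adj.symm hv hw ⟨φ, hφ, hne⟩
  exact h' (h χ hχ)

include h1 in
/-- The alternating form of a thin system. -/
theorem exists_form (h2 : (2 : K) ≠ 0) : ∃ B : U →ₗ[K] Dual K U, B.IsAlt ∧
    ∀ v, S.IsMax v → B v ∈ S.A v ∧ B v ≠ 0 := by
  obtain ⟨x, hx⟩ := S.exists_isMax
  obtain ⟨η, hη, hη0⟩ := (Submodule.ne_bot_iff _).1 hx.2.1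
  let D : Set U := {y | S.IsMax y ∧ η y ≠ 0}
  have hsplit : ∀ z, S.IsMax z → z ∉ D → ∃ u ∈ D, S.Adj u z ∧ u + z ∈ D := by
    intro z hz hzD
    have hηz : η z = 0 := by by_contra h; exact hzD ⟨hz, h⟩
    have hxz : ¬ S.Adj x z := by
      rintro ⟨φ, hφ, hne⟩
      obtain ⟨c, rfl⟩ := eq_smul_of_mem h1 hx hη hη0 hφ
      exact hne (by simp [hηz])
    obtain ⟨u, hu, ⟨φ, hφ, hne⟩, huz⟩ := (connected hx hz).resolve_left hxz
    obtain ⟨c, rfl⟩ := eq_smul_of_mem h1 hx hη hη0 hφ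
    have hηu : η u ≠ 0 := fun e => hne (by simp [e])
    have huz0 : η (u + z) ≠ 0 := by rw [map_add, hηz, add_zero]; exact hηu
    refine ⟨u, ⟨hu, hηu⟩, huz, ?_, huz0⟩
    have := plane hu hz huz (a := 1) (b := 1) (by
      rw [one_smul, one_smul]; intro e; exact huz0 (by rw [e, map_zero]))
    simpa using this
  have hspanD : span K D = ⊤ := by
    rw [eq_top_iff, ← span_near hx, span_le]
    intro z hz
    by_cases hzD : z ∈ D
    · exact subset_span hzD
    · obtain ⟨u, hu, -, huz⟩ := hsplit z hz.1 hzD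
      simpa using sub_mem (subset_span huz : u + z ∈ span K D) (subset_span hu : u ∈ span K D)
  have hnorm : ∀ y ∈ D, ∃ φ ∈ S.A y, φ x = -η y := by
    rintro y ⟨hy, hηy⟩
    obtain ⟨φ, hφ, hne⟩ := Adj.symm hx hy ⟨η, hη, hηy⟩
    exact ⟨(-η y / φ x) • φ, (S.A y).smul_mem _ hφ, by simp [div_mul_cancel₀ _ hne]⟩
  choose! f hfA hfx using hnorm
  have hf0 : ∀ y ∈ D, f y ≠ 0 := fun y hy e => hy.2 (neg_eq_zero.1 (by rw [← hfx y hy, e, LinearMap.zero_apply]))
  have hanti : ∀ y ∈ D, ∀ z ∈ D, f y z = -f z y := by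
    intro y hy z hz
    obtain ⟨hu, hρ⟩ := comb_mem h1 hy.1 hx (hfA y hy) hη (by rw [hfx y hy]; exact neg_ne_zero.2 hy.2)
      (by rw [hfx y hy, neg_neg]) (f z y / η z)
    have h0 : ∀ χ ∈ S.A z, χ (y + (f z y / η z) • x) = 0 := by
      intro χ hχ
      obtain ⟨c, rfl⟩ := eq_smul_of_mem h1 hz.1 (hfA z hz) (hf0 z hz) hχ
      simp only [LinearMap.smul_apply, map_add, map_smul, hfx z hz, smul_eq_mul, mul_neg]
      have := hz.2
      field_simp
      ring
    have h' := symm_zero hu hz.1 h0 hρ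
    simp only [LinearMap.add_apply, LinearMap.smul_apply, smul_eq_mul, div_mul_cancel₀ _ hz.2] at h'
    exact eq_neg_of_add_eq_zero_left h'
  obtain ⟨b, hbD, hbspan, hbli⟩ := exists_linearIndependent K D
  let e : Basis b K U := Basis.mk hbli (by rw [Subtype.range_coe, hbspan, hspanD])
  have he : ∀ i : b, e i = (i : U) := fun i => Basis.mk_apply _ _ i
  let B : U →ₗ[K] Dual K U := e.constr K fun i => f i
  have hBb : ∀ i : b, B (i : U) = f i := fun i => by
    conv_lhs => rw [← he i]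
    exact e.constr_basis K _ i
  have hflip : ∀ y ∈ D, f y = -B.flip y := fun y hy => e.ext fun i => by
    rw [he, LinearMap.neg_apply, LinearMap.flip_apply, hBb, hanti y hy i (hbD i.2)]
  have hskew : B = -B.flip := e.ext fun i => by
    rw [he, hBb, LinearMap.neg_apply, hflip i (hbD i.2)]
  have hD : ∀ y ∈ D, B y = f y := fun y hy => by rw [hflip y hy]; exact LinearMap.congr_fun hskew y
  have halt : B.IsAlt := fun y => by
    have h := LinearMap.congr_fun (LinearMap.congr_fun hskew y) y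
    simp only [LinearMap.neg_apply, LinearMap.flip_apply] at h
    refine (mul_eq_zero.1 (show (2 : K) * B y y = 0 by linear_combination h)).resolve_left h2
  refine ⟨B, halt, fun v hv => ?_⟩
  by_cases hvD : v ∈ D
  · rw [hD v hvD]; exact ⟨hfA v hvD, hf0 v hvD⟩
  obtain ⟨u, hu, ⟨χ, hχ, hne⟩, huv⟩ := hsplit v hv hvD
  obtain ⟨c, rfl⟩ := eq_smul_of_mem h1 hu.1 (hfA u hu) (hf0 u hu) hχ
  have hBuv : B u v ≠ 0 := fun e' => hne (by rw [LinearMap.smul_apply, ← hD u hu, e', smul_zero])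
  have hBv : B v u = -B u v := (halt.neg u v).symm
  refine ⟨?_, fun e' => hBuv (neg_eq_zero.1 (by rw [← hBv, e', LinearMap.zero_apply]))⟩
  obtain ⟨φ, hφ, hφu⟩ := Adj.symm hu.1 hv ⟨f u, hfA u hu, by rwa [← hD u hu]⟩
  have hnorm' : ((-(f u v)) / φ u) • φ ∈ S.A v := (S.A v).smul_mem _ hφ
  obtain ⟨-, hρ⟩ := comb_mem h1 hu.1 hv (hfA u hu) hnorm' (by rwa [← hD u hu])
    (by simp [div_mul_cancel₀ _ hφu]) 1
  rw [one_smul, one_smul] at hρ
  obtain ⟨d, hd⟩ := eq_smul_of_mem h1 huv.1 hρ (fun e' => by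
    have := LinearMap.congr_fun e' u
    rw [LinearMap.add_apply, S.A_self (hfA u hu), zero_add, LinearMap.zero_apply, LinearMap.smul_apply,
      smul_eq_mul, div_mul_cancel₀ _ hφu, neg_eq_zero, ← hD u hu] at this
    exact hBuv this) (hfA (u + v) huv)
  have key : B v = (d - 1) • f u + d • ((-(f u v)) / φ u) • φ := by
    rw [← hD (u + v) huv, map_add, hD u hu] at hd
    rw [eq_sub_of_add_eq' hd]
    module
  have h0 := halt v
  rw [key, LinearMap.add_apply, LinearMap.smul_apply, LinearMap.smul_apply, S.A_self hnorm',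
    smul_zero, add_zero, smul_eq_mul, mul_eq_zero, sub_eq_zero, ← hD u hu] at h0
  rw [key, h0.resolve_right hBuv, sub_self, zero_smul, zero_add, one_smul]
  exact hnorm'

include h1 in
/-- The sum of two centres in a thin system. -/
theorem add_isMax_of_thin {B : U →ₗ[K] Dual K U} (hA : B.IsAlt)
    (hB : ∀ v, S.IsMax v → B v ∈ S.A v ∧ B v ≠ 0) (h2 : (2 : K) ≠ 0) {v w : U}
    (hv : S.IsMax v) (hw : S.IsMax w) (hne : v + w ≠ 0) : S.IsMax (v + w) := by
  have hadj : ∀ {a b : U}, S.IsMax a → B a b ≠ 0 → S.Adj a b := fun ha h => ⟨_, (hB _ ha).1, h⟩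
  have hsymm : ∀ {a b : U}, B a b ≠ 0 → B b a ≠ 0 := fun {a b} h e => h (by rw [← hA.neg b a, e, neg_zero])
  have hmid : ∀ {a b y : U}, S.IsMax a → S.IsMax b → S.IsMax y → B y a ≠ 0 → B y b ≠ 0 →
      B y (a + b) ≠ 0 → S.IsMax (a + b) := by
    intro a b y ha hb hy hya hyb hyab
    by_cases hab : B a b ≠ 0
    · simpa using plane ha hb (hadj ha hab) (a := 1) (b := 1)
        (by rw [one_smul, one_smul]; intro e; exact hyab (by rw [e, map_zero]))
    simp only [ne_eq, not_not] at hab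
    have h1' : B (a + y) (b - y) ≠ 0 := by
      simp only [map_add, map_sub, LinearMap.add_apply, hab, hA y, sub_zero]
      intro e
      apply hyab
      rw [map_add]
      linear_combination e - (hA.neg y a)
    have hu : S.IsMax (a + y) := by
      simpa using plane ha hy (hadj ha (hsymm hya)) (a := 1) (b := 1)
        (by rw [one_smul, one_smul]; intro e; exact h1' (by rw [e, map_zero, LinearMap.zero_apply]))
    have hu' : S.IsMax (b - y) := by
      have := plane hb hy (hadj hb (hsymm hyb)) (a := 1) (b := -1)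
        (by rw [one_smul, neg_one_smul, ← sub_eq_add_neg]; intro e; exact h1' (by rw [e, map_zero]))
      rwa [one_smul, neg_one_smul, ← sub_eq_add_neg] at this
    have := plane hu hu' (hadj hu h1') (a := 1) (b := 1)
      (by rw [one_smul, one_smul, add_add_sub_cancel]; intro e; exact hyab (by rw [e, map_zero]))
    rwa [one_smul, one_smul, add_add_sub_cancel] at this
  by_cases hBvw : B (v + w) = 0
  · have e : B w = -B v := eq_neg_of_add_eq_zero_right (by rwa [← map_add])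
    have hmem : B v ∈ S.A (v + w) := S.add_left (hB v hv).1 (by
      have h' := (S.A w).neg_mem (hB w hw).1
      rw [e, neg_neg] at h'
      exact h')
    refine hv.of_le hne ?_
    rw [h1 v hv, Nat.one_le_iff_ne_zero, ne_eq, finrank_eq_zero]
    exact fun e' => (hB v hv).2 ((Submodule.eq_bot_iff _).1 e' _ hmem)
  by_cases hvw : B v w ≠ 0
  · simpa using plane hv hw (hadj hv hvw) (a := 1) (b := 1) (by simpa using hne)
  simp only [ne_eq, not_not] at hvw
  by_cases hdep : ∃ c : K, w = c • v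
  · obtain ⟨c, rfl⟩ := hdep
    have e : v + c • v = (1 + c) • v := by rw [add_smul, one_smul]
    rw [e] at hne ⊢
    exact hv.smul fun e' => hne (by rw [e', zero_smul])
  obtain ⟨y, hy, hy'⟩ := exists_apply_ne_zero hv hBvw
  have hyvw : B y (v + w) ≠ 0 := hsymm hy'
  -- a common neighbour of `v` and `w`
  obtain ⟨x, hx, hvx, hxw⟩ : ∃ x, S.IsMax x ∧ B x v ≠ 0 ∧ B x w ≠ 0 := by
    have hnadj : ¬ S.Adj v w := by
      rintro ⟨φ, hφ, hne'⟩
      obtain ⟨c, rfl⟩ := eq_smul_of_mem h1 hv (hB v hv).1 (hB v hv).2 hφ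
      exact hne' (by simp [hvw])
    obtain ⟨x, hx, ⟨φ, hφ, hne1⟩, ⟨χ, hχ, hne2⟩⟩ := (connected hv hw).resolve_left hnadj
    obtain ⟨c, rfl⟩ := eq_smul_of_mem h1 hv (hB v hv).1 (hB v hv).2 hφ
    obtain ⟨d, rfl⟩ := eq_smul_of_mem h1 hx (hB x hx).1 (hB x hx).2 hχ
    exact ⟨x, hx, hsymm fun e => hne1 (by simp [e]), fun e => hne2 (by simp [e])⟩
  by_cases hxvw : B x (v + w) ≠ 0
  · exact hmid hv hw hx hvx hxw hxvw
  simp only [ne_eq, not_not] at hxvw
  by_cases hyv : B y v ≠ 0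
  · by_cases hyw : B y w ≠ 0
    · exact hmid hv hw hy hyv hyw hyvw
    simp only [ne_eq, not_not] at hyw
    obtain ⟨c, hc, hc'⟩ : ∃ c : K, c ≠ 0 ∧ B v (y + c • x) ≠ 0 := by
      by_contra hcon
      push Not at hcon
      have e1 := hcon 1 one_ne_zero
      have e2 := hcon (-1) (neg_ne_zero.2 one_ne_zero)
      simp only [map_add, map_smul, smul_eq_mul] at e1 e2
      exact hsymm hvx ((mul_eq_zero.1 (show (2 : K) * B v x = 0 by linear_combination e1 - e2)).resolve_left h2)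
    have hz : S.IsMax (y + c • x) := hmid hy (hx.smul hc) hv (hsymm hyv)
      (by rw [map_smul, smul_eq_mul]; exact mul_ne_zero hc (hsymm hvx)) hc'
    refine hmid hv hw hz (hsymm hc') ?_ ?_
    · simp [hyw, hc, hxw]
    · simp only [map_add, LinearMap.add_apply, map_smul, LinearMap.smul_apply] at hxvw hyvw ⊢
      simp only [smul_eq_mul] at hxvw hyvw ⊢
      intro e
      exact hyvw (by linear_combination e - c * hxvw)
  simp only [ne_eq, not_not] at hyv
  obtain ⟨c, hc, hc'⟩ : ∃ c : K, c ≠ 0 ∧ B w (y + c • x) ≠ 0 := by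
    by_contra hcon
    push Not at hcon
    have e1 := hcon 1 one_ne_zero
    have e2 := hcon (-1) (neg_ne_zero.2 one_ne_zero)
    simp only [map_add, map_smul, smul_eq_mul] at e1 e2
    exact hsymm hxw ((mul_eq_zero.1 (show (2 : K) * B w x = 0 by linear_combination e1 - e2)).resolve_left h2)
  have hyw : B y w ≠ 0 := by simpa [hyv] using hyvw
  have hz : S.IsMax (y + c • x) := hmid hy (hx.smul hc) hw (hsymm hyw)
    (by rw [map_smul, smul_eq_mul]; exact mul_ne_zero hc (hsymm hxw)) hc'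
  refine hmid hv hw hz ?_ (hsymm hc') ?_
  · simp [hyv, hc, hvx]
  · simp only [map_add, LinearMap.add_apply, map_smul, LinearMap.smul_apply] at hxvw hyvw ⊢
    simp only [smul_eq_mul] at hxvw hyvw ⊢
    intro e
    exact hyvw (by linear_combination e - c * hxvw)

include h1 in
/-- The thin case: a non-degenerate alternating form. -/
theorem thin (h2 : (2 : K) ≠ 0) : ∃ B : U →ₗ[K] Dual K U, B.IsAlt ∧ B.Nondegenerate ∧
    ∀ v φ, v ≠ 0 → (S.Rt v φ ↔ ∃ c : K, φ = c • B v) := by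
  obtain ⟨B, hA, hB⟩ := exists_form h1 h2
  obtain ⟨v₀, hv₀⟩ := S.exists_isMax
  have hall : ∀ z : U, z ≠ 0 → S.IsMax z := fun z hz =>
    isMax_all_of_add hv₀ (fun a b ha hb => add_isMax_of_thin h1 hA hB h2 ha hb) hz
  have hsep : ∀ x, (∀ y, B x y = 0) → x = 0 := fun x h => by
    by_contra hx
    exact (hB x (hall x hx)).2 (LinearMap.ext h)
  refine ⟨B, hA, (LinearMap.IsRefl.nondegenerate_iff_separatingLeft hA.isRefl).2 hsep, fun v φ hv => ?_⟩
  exact ⟨fun h => eq_smul_of_mem h1 (hall v hv) (hB v (hall v hv)).1 (hB v (hall v hv)).2 h,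
    fun ⟨c, hc⟩ => hc ▸ (S.A v).smul_mem c (hB v (hall v hv)).1⟩

end Thin

variable (S) in
/-- An irreducible system is that of all transvections or of an alternating form. -/
theorem classify (h2 : (2 : K) ≠ 0) : (∀ v : U, ∀ φ : Dual K U, v ≠ 0 → φ v = 0 → S.Rt v φ) ∨
    ∃ B : U →ₗ[K] Dual K U, B.IsAlt ∧ B.Nondegenerate ∧
      ∀ v φ, v ≠ 0 → (S.Rt v φ ↔ ∃ c : K, φ = c • B v) := by
  obtain ⟨v₀, hv₀⟩ := S.exists_isMax
  by_cases h : 2 ≤ finrank K (S.A v₀)
  · exact Or.inl fun v φ hv hφ => rt_all hv₀ h hv hφ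
  · refine Or.inr (thin (fun v hv => ?_) h2)
    rw [← hv₀.finrank_eq hv]
    have : finrank K (S.A v₀) ≠ 0 := fun e => hv₀.2.1 (finrank_eq_zero.1 e)
    omega

end Sys

end CfsgLib.Perm.Transv
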