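import Mathlib
import Cfsg.Agent.Lib.Perm.Transv.System
import Cfsg.Agent.Lib.Perm.Transv.Group

/-!
# A connected group generated by transvections

Without non-trivial normal `p`-subgroup, for odd `p`, the moved space `W` has trivial intersection
with the fixed space, is complemented by it, and the induced group is classified by `Sys.classify`.
-/

set_option autoImplicit false

namespace CfsgLib.Perm.Transv

open Module Submodule

variable {p : ℕ} [Fact p.Prime] {V : Type*} [AddCommGroup V] [Module (ZMod p) V]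

/-- A connected generating set of transvections of a group without normal `p`-subgroup. -/
structure Comp (G : Subgroup (V ≃ₗ[ZMod p] V)) (T : Set (V ≃ₗ[ZMod p] V)) : Prop where
  odd : Odd p
  gen : G = Subgroup.closure T
  isTv : ∀ t ∈ T, IsTv t
  nonempty : T.Nonempty
  conn : ∀ s ∈ T, ∀ t ∈ T, Relation.ReflTransGen (fun a b => a ∈ T ∧ b ∈ T ∧ a * b ≠ b * a) s t
  noUnip : ∀ N : Subgroup (V ≃ₗ[ZMod p] V), N ≤ G → (∀ g ∈ G, ∀ n ∈ N, g * n * g⁻¹ ∈ N) →
    (∀ n ∈ N, n ^ p = 1) → N = ⊥

/-- The moved space. -/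
def moved (T : Set (V ≃ₗ[ZMod p] V)) : Submodule (ZMod p) V :=
  span (ZMod p) {y | ∃ t ∈ T, ∃ x, t x - x = y}

/-- The fixed space. -/
def fixedSpace (G : Subgroup (V ≃ₗ[ZMod p] V)) : Submodule (ZMod p) V where
  carrier := {x | ∀ g ∈ G, g x = x}
  add_mem' ha hb g hg := by rw [map_add, ha g hg, hb g hg]
  zero_mem' g _ := map_zero g
  smul_mem' c _ hx g hg := by rw [map_smul, hx g hg]

theorem mem_fixedSpace {G : Subgroup (V ≃ₗ[ZMod p] V)} {x : V} :
    x ∈ fixedSpace G ↔ ∀ g ∈ G, g x = x := Iff.rfl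

theorem mem_fixedSpace_closure {T : Set (V ≃ₗ[ZMod p] V)} {x : V} :
    x ∈ fixedSpace (Subgroup.closure T) ↔ ∀ t ∈ T, t x = x := by
  refine ⟨fun h t ht => h t (Subgroup.subset_closure ht), fun h g hg => ?_⟩
  induction hg using Subgroup.closure_induction with
  | mem t ht => exact h t ht
  | one => rfl
  | mul a b _ _ ha hb => show a (b x) = x; rw [hb, ha]
  | inv a _ ha => conv_lhs => rw [← ha]
                  exact a.symm_apply_apply x

variable {G : Subgroup (V ≃ₗ[ZMod p] V)} {T : Set (V ≃ₗ[ZMod p] V)}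

theorem Comp.mem (C : Comp G T) {t : V ≃ₗ[ZMod p] V} (ht : t ∈ T) : t ∈ G := by
  rw [C.gen]; exact Subgroup.subset_closure ht

variable [Finite V]

/-- An invariant submodule is mapped onto itself. -/
theorem inv_mem_of_invariant {X : Submodule (ZMod p) V} (hX : ∀ g ∈ G, ∀ x ∈ X, g x ∈ X)
    {g : V ≃ₗ[ZMod p] V} (hg : g ∈ G) {x : V} (hx : x ∈ X) : g.symm x ∈ X :=
  hX g⁻¹ (inv_mem hg) x hx

omit [Finite V] in
theorem invariant_of_generators {X : Submodule (ZMod p) V} [Finite V] (hG : G = Subgroup.closure T)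
    (hX : ∀ t ∈ T, ∀ x ∈ X, t x ∈ X) : ∀ g ∈ G, ∀ x ∈ X, g x ∈ X := by
  rw [hG]
  intro g hg
  induction hg using Subgroup.closure_induction with
  | mem t ht => exact hX t ht
  | one => exact fun x hx => hx
  | mul a b _ _ ha hb => exact fun x hx => ha _ (hb x hx)
  | inv a _ ha =>
    intro x hx
    have hsurj : Function.Surjective fun y : X => (⟨a y, ha y y.2⟩ : X) :=
      Finite.injective_iff_surjective.1 fun y z e => Subtype.ext (a.injective (congrArg Subtype.val e))
    obtain ⟨y, hy⟩ := hsurj ⟨x, hx⟩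
    have hy' : a (y : V) = x := congrArg Subtype.val hy
    rw [← hy']
    show a.symm (a (y : V)) ∈ X
    rw [LinearEquiv.symm_apply_apply]
    exact y.2

variable (C : Comp G T)

include C

theorem Comp.sub_mem_moved {g : V ≃ₗ[ZMod p] V} (hg : g ∈ G) (x : V) : g x - x ∈ moved T := by
  rw [C.gen] at hg
  induction hg using Subgroup.closure_induction generalizing x with
  | mem t ht => exact subset_span ⟨t, ht, x, rfl⟩
  | one => simp
  | mul a b _ _ ha hb =>
    have e : (a * b) x - x = (a (b x) - b x) + (b x - x) := by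
      show a (b x) - x = _
      abel
    rw [e]; exact add_mem (ha _) (hb x)
  | inv a _ ha =>
    have := neg_mem (ha (a.symm x))
    rwa [LinearEquiv.apply_symm_apply, neg_sub] at this

theorem Comp.moved_invariant : ∀ g ∈ G, ∀ x ∈ moved T, g x ∈ moved T := fun g hg x hx => by
  simpa using add_mem (C.sub_mem_moved hg x) hx

omit C in
/-- The elements acting trivially on a series `V ⊇ X ⊇ Y ⊇ 0`. -/
def seriesKer (G : Subgroup (V ≃ₗ[ZMod p] V)) (X Y : Submodule (ZMod p) V) :
    Set (V ≃ₗ[ZMod p] V) :=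
  {g | g ∈ G ∧ (∀ x, g x - x ∈ X) ∧ (∀ x ∈ X, g x - x ∈ Y) ∧ ∀ y ∈ Y, g y = y}

theorem Comp.series_trivial {X Y : Submodule (ZMod p) V} (hYX : Y ≤ X)
    (hX : ∀ g ∈ G, ∀ x ∈ X, g x ∈ X) (hY : ∀ g ∈ G, ∀ y ∈ Y, g y ∈ Y)
    {g : V ≃ₗ[ZMod p] V} (hg : g ∈ seriesKer G X Y) : g = 1 := by
  have hone : (1 : V ≃ₗ[ZMod p] V) ∈ seriesKer G X Y :=
    ⟨one_mem G, fun x => by simp, fun x _ => by simp, fun _ _ => rfl⟩
  let N : Subgroup (V ≃ₗ[ZMod p] V) :=
    { carrier := seriesKer G X Y
      one_mem' := hone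
      mul_mem' := by
        rintro a b ⟨haG, ha1, ha2, ha3⟩ ⟨hbG, hb1, hb2, hb3⟩
        refine ⟨mul_mem haG hbG, fun x => ?_, fun x hx => ?_, fun y hy => ?_⟩
        · have e : (a * b) x - x = (a (b x) - b x) + (b x - x) := by show a (b x) - x = _; abel
          rw [e]; exact add_mem (ha1 _) (hb1 x)
        · have e : (a * b) x - x = (a (b x) - b x) + (b x - x) := by show a (b x) - x = _; abel
          rw [e]; exact add_mem (ha2 _ (hX b hbG x hx)) (hb2 x hx)
        · show a (b y) = y; rw [hb3 y hy, ha3 y hy]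
      inv_mem' := by
        rintro a ⟨haG, ha1, ha2, ha3⟩
        refine ⟨inv_mem haG, fun x => ?_, fun x hx => ?_, fun y hy => ?_⟩
        · have := neg_mem (ha1 (a.symm x))
          rwa [LinearEquiv.apply_symm_apply, neg_sub] at this
        · have := neg_mem (ha2 (a.symm x) (inv_mem_of_invariant hX haG hx))
          rwa [LinearEquiv.apply_symm_apply, neg_sub] at this
        · show a.symm y = y
          rw [LinearEquiv.symm_apply_eq, ha3 y hy] }
  have hN : N = ⊥ := by
    refine C.noUnip N (fun n hn => hn.1) (fun h hh n hn => ?_) fun n hn => ?_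
    · obtain ⟨hnG, h1, h2, h3⟩ := hn
      have key : ∀ x, (h * n * h⁻¹) x - x = h (n (h.symm x) - h.symm x) := fun x => by
        rw [map_sub, LinearEquiv.apply_symm_apply]; rfl
      refine ⟨mul_mem (mul_mem hh hnG) (inv_mem hh), fun x => ?_, fun x hx => ?_, fun y hy => ?_⟩
      · rw [key]; exact hX h hh _ (h1 _)
      · rw [key]; exact hY h hh _ (h2 _ (inv_mem_of_invariant hX hh hx))
      · show h (n (h.symm y)) = y
        rw [h3 _ (inv_mem_of_invariant hY hh hy), LinearEquiv.apply_symm_apply]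
    · obtain ⟨-, h1, h2, h3⟩ := hn
      exact pow_eq_one_of_series C.odd n fun x => h3 _ (h2 _ (h1 x))
  have hgN : g ∈ N := hg
  rw [hN] at hgN
  exact Subgroup.mem_bot.1 hgN

theorem Comp.eq_one_of_trivial_moved {g : V ≃ₗ[ZMod p] V} (hg : g ∈ G)
    (h : ∀ y ∈ moved T, g y = y) : g = 1 :=
  C.series_trivial (le_refl (moved T)) C.moved_invariant C.moved_invariant
    ⟨hg, C.sub_mem_moved hg, fun x hx => by rw [h x hx, sub_self]; exact zero_mem _, h⟩

theorem Comp.eq_one_of_mod_fixed {g : V ≃ₗ[ZMod p] V} (hg : g ∈ G)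
    (h : ∀ y ∈ moved T, g y - y ∈ fixedSpace G) : g = 1 :=
  C.series_trivial (X := moved T) (Y := moved T ⊓ fixedSpace G) inf_le_left C.moved_invariant
    (fun a ha y hy => by rw [hy.2 a ha]; exact hy)
    ⟨hg, C.sub_mem_moved hg, fun x hx => ⟨C.sub_mem_moved hg x, h x hx⟩, fun y hy => hy.2 g hg⟩

/-- An invariant submodule contains the moved space or is fixed. -/
theorem Comp.dichotomy {X : Submodule (ZMod p) V} (hX : ∀ g ∈ G, ∀ x ∈ X, g x ∈ X) :
    moved T ≤ X ∨ X ≤ fixedSpace G := by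
  let tA : (V ≃ₗ[ZMod p] V) → Prop := fun t => ∀ x, t x - x ∈ X
  let tB : (V ≃ₗ[ZMod p] V) → Prop := fun t => ∀ x ∈ X, t x = x
  have hor : ∀ t ∈ T, tA t ∨ tB t := by
    intro t ht
    obtain ⟨v, φ, -, -, -, et⟩ := (C.isTv t ht).apply_sub
    by_cases hc : ∀ x ∈ X, φ x = 0
    · exact Or.inr fun x hx => by have := et x; rwa [hc x hx, zero_smul, sub_eq_zero] at this
    · push Not at hc
      obtain ⟨x, hx, hne⟩ := hc
      have h1 : φ x • v ∈ X := et x ▸ sub_mem (hX t (C.mem ht) x hx) hx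
      have hv : v ∈ X := by simpa [smul_smul, inv_mul_cancel₀ hne] using X.smul_mem (φ x)⁻¹ h1
      exact Or.inl fun y => et y ▸ X.smul_mem _ hv
  have hcomm : ∀ s ∈ T, ∀ t ∈ T, tA t → tB s → s * t = t * s := by
    intro s hs t ht ha hb
    rw [← mul_inv_eq_one]
    refine C.series_trivial (X := X) (Y := X) le_rfl hX hX ?_
    have hmem := mul_mem (mul_mem (C.mem hs) (C.mem ht)) (inv_mem (mul_mem (C.mem ht) (C.mem hs)))
    have hX' : ∀ x, (s * t) x - (t * s) x ∈ X := fun x => by
      have e : (s * t) x - (t * s) x = s (t x - x) - (t (s x) - s x) := by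
        show s (t x) - t (s x) = _
        rw [map_sub]; abel
      rw [e]
      exact sub_mem (hX s (C.mem hs) _ (ha x)) (ha (s x))
    have hfix : ∀ x ∈ X, (s * t) x = (t * s) x := fun x hx => by
      show s (t x) = t (s x)
      rw [hb x hx, hb _ (hX t (C.mem ht) x hx)]
    have hfix' : ∀ x ∈ X, (s * t * (t * s)⁻¹) x = x := fun x hx => by
      show (s * t) ((t * s).symm x) = x
      rw [hfix _ (inv_mem_of_invariant hX (mul_mem (C.mem ht) (C.mem hs)) hx), LinearEquiv.apply_symm_apply]
    refine ⟨hmem, fun x => ?_, fun x hx => by rw [hfix' x hx, sub_self]; exact zero_mem _, hfix'⟩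
    have := hX' ((t * s).symm x)
    rwa [LinearEquiv.apply_symm_apply] at this
  have hexcl : ∀ t ∈ T, tA t → tB t → False := fun t ht ha hb => by
    have h1 := C.series_trivial (X := X) (Y := X) le_rfl hX hX
      ⟨C.mem ht, ha, fun x hx => by rw [hb x hx, sub_self]; exact zero_mem _, hb⟩
    obtain ⟨v, φ, hv, hφ, -, et⟩ := (C.isTv t ht).apply_sub
    refine hφ (LinearMap.ext fun x => ?_)
    have := et x
    rw [h1] at this
    simpa [hv] using this.symm
  obtain ⟨t₀, ht₀⟩ := C.nonempty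
  have hall : ∀ (P Q : (V ≃ₗ[ZMod p] V) → Prop), (∀ t ∈ T, P t ∨ Q t) →
      (∀ s ∈ T, ∀ t ∈ T, P t → Q s → s * t = t * s) → P t₀ → ∀ t ∈ T, P t := by
    intro P Q h1 h2 h0 t ht
    have h := C.conn t₀ ht₀ t ht
    clear ht
    induction h with
    | refl => exact h0
    | tail _ hbc ih =>
      obtain ⟨hb, hc, hne⟩ := hbc
      exact (h1 _ hc).resolve_right fun hq => hne (h2 _ hc _ hb ih hq).symm
  rcases hor t₀ ht₀ with h0 | h0
  · left
    refine span_le.2 ?_
    rintro _ ⟨t, ht, x, rfl⟩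
    exact hall tA tB hor hcomm h0 t ht x
  · right
    intro x hx
    rw [C.gen, mem_fixedSpace_closure]
    exact fun t ht => hall tB tA (fun t ht => (hor t ht).symm)
      (fun s hs t ht hb ha => (hcomm t ht s hs ha hb).symm) h0 t ht x hx

/-- The system of transvections induced on the moved space. -/
noncomputable def Comp.sys : Sys (ZMod p) (moved T) where
  Rt v η := η v = 0 ∧ ∃ g ∈ G, ∀ y : moved T, g y = y + η y • (v : V)
  apply_eq_zero h := h.1
  zero_right v := ⟨rfl, 1, one_mem G, fun y => by simp⟩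
  smul_left {v} {η} c h := by
    obtain ⟨hv, g, hg, e⟩ := h
    refine ⟨by rw [map_smul, hv, smul_zero], g ^ c.val, pow_mem hg _, fun y => ?_⟩
    have hn : ∀ (n : ℕ) (y : moved T), (g ^ n) y = y + ((n : ZMod p) * η y) • (v : V) := by
      intro n
      induction n with
      | zero => intro y; simp
      | succ n ih =>
        intro y
        rw [pow_succ]
        show (g ^ n) (g y) = _
        rw [e, map_add, map_smul, ih y, ih v, hv, mul_zero, zero_smul, add_zero, Nat.cast_succ]
        module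
    rw [hn, ZMod.natCast_zmod_val, Submodule.coe_smul, smul_smul, mul_comm]
  smul_right {v} {η} c h := by
    obtain ⟨hv, g, hg, e⟩ := h
    refine ⟨by rw [LinearMap.smul_apply, hv, smul_zero], g ^ c.val, pow_mem hg _, fun y => ?_⟩
    have hn : ∀ (n : ℕ) (y : moved T), (g ^ n) y = y + ((n : ZMod p) * η y) • (v : V) := by
      intro n
      induction n with
      | zero => intro y; simp
      | succ n ih =>
        intro y
        rw [pow_succ]
        show (g ^ n) (g y) = _
        rw [e, map_add, map_smul, ih y, ih v, hv, mul_zero, zero_smul, add_zero, Nat.cast_succ]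
        module
    rw [hn, ZMod.natCast_zmod_val, LinearMap.smul_apply, smul_eq_mul]
  add_left {v} {w} {η} h h' := by
    obtain ⟨hv, g, hg, e⟩ := h
    obtain ⟨hw, g', hg', e'⟩ := h'
    refine ⟨by rw [map_add, hv, hw, add_zero], g * g', mul_mem hg hg', fun y => ?_⟩
    show g (g' y) = _
    rw [e', map_add, map_smul, e, e, hw, zero_smul, add_zero, Submodule.coe_add]
    module
  add_right {v} {η} {ξ} h h' := by
    obtain ⟨hv, g, hg, e⟩ := h
    obtain ⟨hv', g', hg', e'⟩ := h'
    refine ⟨by rw [LinearMap.add_apply, hv, hv', add_zero], g * g', mul_mem hg hg', fun y => ?_⟩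
    show g (g' y) = _
    rw [e', map_add, map_smul, e, e, hv, zero_smul, add_zero, LinearMap.add_apply]
    module
  conj {v} {w} {η} {ξ} h h' := by
    obtain ⟨hv, g, hg, e⟩ := h
    obtain ⟨hw, g', hg', e'⟩ := h'
    refine ⟨?_, g * g' * g⁻¹, mul_mem (mul_mem hg hg') (inv_mem hg), fun y => ?_⟩
    · simp only [LinearMap.sub_apply, LinearMap.smul_apply, map_add, map_smul, hw, hv, smul_eq_mul]
      ring
    have hsymm : g.symm y = ((y - η y • v : moved T) : V) := by
      rw [LinearEquiv.symm_apply_eq, e, map_sub, map_smul, hv, smul_zero, sub_zero, Submodule.coe_sub,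
        Submodule.coe_smul]
      module
    show g (g' (g.symm y)) = _
    rw [hsymm, e', map_add, map_smul, e, e, map_sub, map_smul, hv, smul_zero, sub_zero,
      LinearMap.sub_apply, LinearMap.smul_apply, Submodule.coe_add, Submodule.coe_smul,
      Submodule.coe_sub, Submodule.coe_smul, map_sub, map_smul]
    simp only [smul_eq_mul]
    module
  irr X hX := by
    have hX' : ∀ g ∈ G, ∀ x ∈ X.map (moved T).subtype, g x ∈ X.map (moved T).subtype := by
      refine invariant_of_generators C.gen fun t ht x hx => ?_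
      obtain ⟨y, hy, rfl⟩ := Submodule.mem_map.1 hx
      obtain ⟨v, φ, hv, hφ, hφv, et⟩ := (C.isTv t ht).apply_sub
      obtain ⟨x₀, hx₀⟩ : ∃ x₀, φ x₀ ≠ 0 := by by_contra hc; push Not at hc; exact hφ (LinearMap.ext hc)
      have hvW : v ∈ moved T := by
        have := (moved T).smul_mem (φ x₀)⁻¹ (et x₀ ▸ C.sub_mem_moved (C.mem ht) x₀)
        rwa [smul_smul, inv_mul_cancel₀ hx₀, one_smul] at this
      have := hX ⟨v, hvW⟩ (φ.comp (moved T).subtype) ⟨hφv, t, C.mem ht, fun z => by
        have := et z; rw [sub_eq_iff_eq_add'] at this; exact this⟩ y hy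
      refine Submodule.mem_map.2 ⟨y + φ (y : V) • ⟨v, hvW⟩, add_mem hy this, ?_⟩
      rw [Submodule.coe_subtype, Submodule.coe_add, Submodule.coe_smul, ← et]
      exact add_sub_cancel _ _
    rcases C.dichotomy hX' with h | h
    · left
      rw [eq_top_iff]
      intro y _
      obtain ⟨z, hz, e⟩ := Submodule.mem_map.1 (h y.2)
      rwa [← Subtype.ext e]
    · right
      intro v η h' x hx
      obtain ⟨-, g, hg, e⟩ := h'
      have h1 := h (Submodule.mem_map_of_mem hx) g hg
      apply Subtype.ext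
      have h2 := e x
      rw [Submodule.coe_subtype] at h1
      rw [h1, left_eq_add] at h2
      rw [Submodule.coe_smul, h2, Submodule.coe_zero]
  nondeg {v} {η} h hv hη := by
    obtain ⟨-, g, hg, e⟩ := h
    by_cases hfix : (v : V) ∈ fixedSpace G
    · exfalso
      have hg1 := C.eq_one_of_mod_fixed hg fun y hy => by
        rw [e ⟨y, hy⟩, add_sub_cancel_left]; exact Submodule.smul_mem _ _ hfix
      refine hη (LinearMap.ext fun y => ?_)
      have := e y
      rw [hg1] at this
      have h2 : η y • (v : V) = 0 := by simpa using this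
      exact (smul_eq_zero.1 h2).resolve_right fun e' => hv (Subtype.ext e')
    · rw [C.gen, mem_fixedSpace_closure] at hfix
      push Not at hfix
      obtain ⟨t, ht, hne⟩ := hfix
      obtain ⟨w, φ, hw, hφ, hφw, et⟩ := (C.isTv t ht).apply_sub
      have hφv : φ v ≠ 0 := fun e0 => hne (by
        have := et v; rwa [e0, zero_smul, sub_eq_zero] at this)
      have hwW : w ∈ moved T := by
        have := (moved T).smul_mem (φ v)⁻¹ (et v ▸ C.sub_mem_moved (C.mem ht) v)
        rwa [smul_smul, inv_mul_cancel₀ hφv, one_smul] at this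
      exact ⟨⟨w, hwW⟩, φ.comp (moved T).subtype, ⟨hφw, t, C.mem ht, fun z => by
        have := et z; rw [sub_eq_iff_eq_add'] at this; exact this⟩, fun e' => hw (congrArg Subtype.val e'), hφv⟩
  exists_root := by
    obtain ⟨t, ht⟩ := C.nonempty
    obtain ⟨v, φ, hv, hφ, hφv, et⟩ := (C.isTv t ht).apply_sub
    obtain ⟨x₀, hx₀⟩ : ∃ x₀, φ x₀ ≠ 0 := by by_contra hc; push Not at hc; exact hφ (LinearMap.ext hc)
    have hvW : v ∈ moved T := by
      have := (moved T).smul_mem (φ x₀)⁻¹ (et x₀ ▸ C.sub_mem_moved (C.mem ht) x₀)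
      rwa [smul_smul, inv_mul_cancel₀ hx₀, one_smul] at this
    refine ⟨⟨v, hvW⟩, φ.comp (moved T).subtype, ⟨hφv, t, C.mem ht, fun z => by
      have := et z; rw [sub_eq_iff_eq_add'] at this; exact this⟩, fun e => hv (congrArg Subtype.val e), fun e => ?_⟩
    have h1 := C.eq_one_of_trivial_moved (C.mem ht) fun y hy => by
      have h2 := LinearMap.congr_fun e ⟨y, hy⟩
      simp only [LinearMap.comp_apply, Submodule.subtype_apply, LinearMap.zero_apply] at h2
      have := et y
      rwa [h2, zero_smul, sub_eq_zero] at this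
    refine hφ (LinearMap.ext fun x => ?_)
    have := et x
    rw [h1] at this
    simpa [hv] using this.symm

omit [Finite V] C in
theorem charNeTwo (hp : Odd p) : (2 : ZMod p) ≠ 0 := by
  intro h
  have : ((2 : ℕ) : ZMod p) = 0 := by simpa using h
  rw [CharP.cast_eq_zero_iff (ZMod p) p, Nat.prime_dvd_prime_iff_eq Fact.out Nat.prime_two] at this
  rw [this] at hp
  exact absurd hp (by decide)

/-- The moved space contains no non-zero fixed vector. -/
theorem Comp.disjoint : Disjoint (moved T) (fixedSpace G) := by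
  rw [Submodule.disjoint_def]
  intro x hx hfix
  by_contra hne
  obtain ⟨v₀, φ₀, hroot₀, hv₀, hφ₀⟩ := C.sys.exists_root
  have hne' : (⟨x, hx⟩ : moved T) ≠ 0 := fun e => hne (congrArg Subtype.val e)
  have hkill : ∀ w ψ, C.sys.Rt w ψ → w ≠ 0 → ψ ⟨x, hx⟩ = 0 := by
    intro w ψ h hw
    obtain ⟨-, g, hg, e⟩ := h
    have h1 := e ⟨x, hx⟩
    rw [hfix g hg, left_eq_add] at h1
    exact (smul_eq_zero.1 h1).resolve_right fun e' => hw (Subtype.ext e')
  have hroot : ∃ η : Module.Dual (ZMod p) (moved T), η ≠ 0 ∧ C.sys.Rt ⟨x, hx⟩ η := by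
    rcases C.sys.classify (charNeTwo C.odd) with h | ⟨B, -, hB, h⟩
    · exact ⟨φ₀, hφ₀, h _ _ hne' (hkill v₀ φ₀ hroot₀ hv₀)⟩
    · exact ⟨B ⟨x, hx⟩, fun e => hne' (hB.1 _ fun y => by rw [e]; rfl), (h _ _ hne').2 ⟨1, (one_smul _ _).symm⟩⟩
  obtain ⟨η, hη, h⟩ := hroot
  obtain ⟨w, ψ, hψ, hw, h1⟩ := C.sys.nondeg h hne' hη
  exact h1 (hkill w ψ hψ hw)

end CfsgLib.Perm.Transv
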