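import Mathlib
import Cfsg.Agent.Lib.Perm.Transv.Component
import Cfsg.Agent.Lib.Classical.SympBasic
import Cfsg.Agent.Lib.Classical.SLBasic

/-!
# The induced group, and the complement of the moved space
-/

set_option autoImplicit false

namespace CfsgLib.Perm.Transv

open Module Submodule

variable {p : ℕ} [Fact p.Prime] {V : Type*} [AddCommGroup V] [Module (ZMod p) V]

/-- Restriction of an element to an invariant submodule. -/
def restrictEquiv (W : Submodule (ZMod p) V) (g : V ≃ₗ[ZMod p] V) (h : ∀ x ∈ W, g x ∈ W)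
    (h' : ∀ x ∈ W, g.symm x ∈ W) : W ≃ₗ[ZMod p] W where
  toFun y := ⟨g y, h y y.2⟩
  invFun y := ⟨g.symm y, h' y y.2⟩
  map_add' a b := Subtype.ext (map_add g (a : V) b)
  map_smul' c a := Subtype.ext (map_smul g c (a : V))
  left_inv y := Subtype.ext (g.symm_apply_apply y)
  right_inv y := Subtype.ext (g.apply_symm_apply y)

variable [Finite V] {G : Subgroup (V ≃ₗ[ZMod p] V)} {T : Set (V ≃ₗ[ZMod p] V)} (C : Comp G T)

/-- The action on the moved space. -/
def Comp.rho : G →* (moved T ≃ₗ[ZMod p] moved T) where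
  toFun g := restrictEquiv (moved T) (g : V ≃ₗ[ZMod p] V) (fun x hx => C.moved_invariant g g.2 x hx)
    (fun _ hx => inv_mem_of_invariant C.moved_invariant g.2 hx)
  map_one' := rfl
  map_mul' _ _ := rfl

theorem Comp.rho_apply (g : G) (y : moved T) :
    ((C.rho g y : moved T) : V) = (g : V ≃ₗ[ZMod p] V) y := rfl

theorem Comp.transvection_mem {v : moved T} {η : Dual (ZMod p) (moved T)} (h : C.sys.Rt v η) :
    LinearEquiv.transvection h.1 ∈ C.rho.range := by
  obtain ⟨hv, g, hg, e⟩ := h
  exact ⟨⟨g, hg⟩, LinearEquiv.ext fun y => Subtype.ext (e y)⟩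

theorem Comp.rho_gen {t : V ≃ₗ[ZMod p] V} (ht : t ∈ T) :
    ∃ (v : moved T) (η : Dual (ZMod p) (moved T)), v ≠ 0 ∧ ∃ h : C.sys.Rt v η,
      C.rho ⟨t, C.mem ht⟩ = LinearEquiv.transvection h.1 := by
  obtain ⟨v, φ, hv, hφ, hφv, et⟩ := (C.isTv t ht).apply_sub
  obtain ⟨x₀, hx₀⟩ : ∃ x₀, φ x₀ ≠ 0 := by by_contra hc; push Not at hc; exact hφ (LinearMap.ext hc)
  have hvW : v ∈ moved T := by
    have := (moved T).smul_mem (φ x₀)⁻¹ (et x₀ ▸ C.sub_mem_moved (C.mem ht) x₀)
    rwa [smul_smul, inv_mul_cancel₀ hx₀, one_smul] at this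
  have he : ∀ z : moved T, t z = z + φ z • v := fun z => by
    have := et z; rwa [sub_eq_iff_eq_add'] at this
  exact ⟨⟨v, hvW⟩, φ.comp (moved T).subtype, fun e => hv (congrArg Subtype.val e),
    ⟨hφv, t, C.mem ht, he⟩, LinearEquiv.ext fun z => Subtype.ext (he z)⟩

theorem Comp.rho_induction {P : (moved T ≃ₗ[ZMod p] moved T) → Prop} (h1 : P 1)
    (hmul : ∀ a b, P a → P b → P (a * b)) (hinv : ∀ a, P a → P a⁻¹)
    (hgen : ∀ (v : moved T) (η : Dual (ZMod p) (moved T)) (h : C.sys.Rt v η), v ≠ 0 →
      P (LinearEquiv.transvection h.1)) {f : moved T ≃ₗ[ZMod p] moved T} (hf : f ∈ C.rho.range) : P f := by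
  obtain ⟨⟨g, hg⟩, rfl⟩ := hf
  have key : ∀ g, g ∈ Subgroup.closure T → ∀ hg : g ∈ G, P (C.rho ⟨g, hg⟩) := by
    intro g hg'
    induction hg' using Subgroup.closure_induction with
    | mem t ht =>
      intro _
      obtain ⟨v, η, hv, h, e⟩ := C.rho_gen ht
      rw [e]
      exact hgen v η h hv
    | one =>
      intro h
      rw [show (⟨1, h⟩ : G) = 1 from rfl, map_one]
      exact h1
    | mul a b ha hb iha ihb =>
      intro h
      have ha' : a ∈ G := by rw [C.gen]; exact ha
      have hb' : b ∈ G := by rw [C.gen]; exact hb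
      rw [show (⟨a * b, h⟩ : G) = ⟨a, ha'⟩ * ⟨b, hb'⟩ from rfl, map_mul]
      exact hmul _ _ (iha ha') (ihb hb')
    | inv a ha iha =>
      intro h
      have ha' : a ∈ G := by rw [C.gen]; exact ha
      rw [show (⟨a⁻¹, h⟩ : G) = ⟨a, ha'⟩⁻¹ from rfl, map_inv]
      exact hinv _ (iha ha')
  exact key g (C.gen ▸ hg) hg

/-- All transvections generate the special linear group. -/
theorem mem_of_det_eq_one {F U : Type*} [Field F] [AddCommGroup U] [Module F U] [FiniteDimensional F U]
    (S : Subgroup (U ≃ₗ[F] U))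
    (hS : ∀ (v : U) (η : Dual F U) (h : η v = 0), LinearEquiv.transvection h ∈ S)
    {g : U ≃ₗ[F] U} (hg : LinearMap.det (g : U →ₗ[F] U) = 1) : g ∈ S := by
  classical
  let b := Module.finBasis F U
  let M : Matrix.SpecialLinearGroup (Fin (finrank F U)) F :=
    ⟨LinearMap.toMatrix b b (g : U →ₗ[F] U), by rw [LinearMap.det_toMatrix, hg]⟩
  have key : ∀ A : Matrix.SpecialLinearGroup (Fin (finrank F U)) F,
      ∃ s ∈ S, ((s : U ≃ₗ[F] U) : U →ₗ[F] U) = Matrix.toLin b b A.1 := by
    refine CfsgLib.Classical.sl_transvection_induction _ ⟨1, one_mem S, ?_⟩ (fun i j hij c => ?_) ?_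
    · rw [Matrix.SpecialLinearGroup.coe_one, Matrix.toLin_one]; rfl
    · have h0 : (c • b.coord j) (b i) = 0 := by
        simp [Finsupp.single_eq_of_ne hij.symm, b.repr_self]
      refine ⟨_, hS (b i) (c • b.coord j) h0, b.ext fun k => ?_⟩
      rw [Matrix.toLin_self]
      simp only [LinearEquiv.coe_coe, LinearEquiv.transvection.apply, LinearMap.smul_apply,
        Basis.coord_apply, b.repr_self, Matrix.SpecialLinearGroup.transvection, Matrix.transvection,
        Matrix.add_apply, add_smul, Finset.sum_add_distrib, Matrix.one_apply, Matrix.single_apply,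
        ite_smul, one_smul, zero_smul, Finset.sum_ite_eq', Finset.mem_univ, if_true, smul_eq_mul]
      by_cases hk : j = k
      · subst hk; simp
      · simp [Finsupp.single_eq_of_ne hk, hk]
    · rintro A B ⟨s, hs, es⟩ ⟨s', hs', es'⟩
      refine ⟨s * s', mul_mem hs hs', ?_⟩
      rw [Matrix.SpecialLinearGroup.coe_mul, Matrix.toLin_mul b b b, ← es, ← es']
      rfl
  obtain ⟨s, hs, es⟩ := key M
  rw [show g = s from LinearEquiv.toLinearMap_injective (by rw [es]; exact (Matrix.toLin_toMatrix b b _).symm)]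
  exact hs

/-- The induced group is special linear or symplectic. -/
theorem Comp.range_eq :
    (C.rho.range : Set (moved T ≃ₗ[ZMod p] moved T)) =
        {f : moved T ≃ₗ[ZMod p] moved T | LinearMap.det (f : moved T →ₗ[ZMod p] moved T) = 1} ∨
      ∃ B : LinearMap.BilinForm (ZMod p) (moved T), B.IsAlt ∧ B.Nondegenerate ∧
        (C.rho.range : Set (moved T ≃ₗ[ZMod p] moved T)) = {f : moved T ≃ₗ[ZMod p] moved T | ∀ x y, B (f x) (f y) = B x y} := by
  rcases C.sys.classify (charNeTwo C.odd) with h | ⟨B, hA, hB, h⟩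
  · left
    ext f
    constructor
    · intro hf
      refine C.rho_induction (P := fun f => LinearMap.det (f : moved T →ₗ[ZMod p] moved T) = 1)
        (LinearMap.det_id) (fun a b ha hb => ?_) (fun a ha => ?_) (fun v η h _ => ?_) hf
      · show LinearMap.det ((a : moved T →ₗ[ZMod p] moved T) ∘ₗ (b : moved T →ₗ[ZMod p] moved T)) = 1
        rw [LinearMap.det_comp, ha, hb, one_mul]
      · have e : (a⁻¹ : moved T ≃ₗ[ZMod p] moved T).toLinearMap ∘ₗ a.toLinearMap = LinearMap.id :=
          LinearMap.ext fun x => a.symm_apply_apply x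
        have := congrArg LinearMap.det e
        rw [LinearMap.det_comp, LinearMap.det_id] at this
        change LinearMap.det (a⁻¹ : moved T ≃ₗ[ZMod p] moved T).toLinearMap = 1
        change LinearMap.det a.toLinearMap = 1 at ha
        rwa [ha, mul_one] at this
      · rw [LinearEquiv.transvection.coe_toLinearMap, LinearMap.transvection.det, h.1, add_zero]
    · intro hf
      refine mem_of_det_eq_one _ (fun v η h0 => ?_) hf
      by_cases hv : v = 0
      · subst hv
        convert one_mem C.rho.range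
        exact LinearEquiv.ext fun y => by simp [LinearMap.transvection.apply]
      · exact C.transvection_mem (h v η hv h0)
  · right
    refine ⟨B, hA, hB, Set.ext fun f => ⟨fun hf => ?_, fun hf => ?_⟩⟩
    · refine C.rho_induction (P := fun f => ∀ x y, B (f x) (f y) = B x y) (fun _ _ => rfl)
        (fun a b ha hb x y => ?_) (fun a ha x y => ?_) (fun v η h0 hv => ?_) hf
      · show B (a (b x)) (a (b y)) = _
        rw [ha, hb]
      · show B (a.symm x) (a.symm y) = _
        rw [← ha (a.symm x), LinearEquiv.apply_symm_apply, LinearEquiv.apply_symm_apply]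
      · intro x y
        obtain ⟨c, hc⟩ := (h v η hv).1 h0
        simp only [LinearEquiv.transvection.apply, hc, LinearMap.smul_apply, smul_eq_mul, map_add, map_smul,
          LinearMap.add_apply, hA v]
        rw [← hA.neg v x]
        ring
    · have hle : CfsgLib.Classical.tvGroup hA ≤ C.rho.range.comap (CfsgLib.Classical.isomGroup B).subtype := by
        refine (Subgroup.closure_le _).2 ?_
        rintro _ ⟨v, c, rfl⟩
        show ((CfsgLib.Classical.tv hA v c).1 : moved T ≃ₗ[ZMod p] moved T) ∈ C.rho.range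
        by_cases hv : v = 0
        · subst hv
          convert one_mem C.rho.range
          exact LinearEquiv.ext fun y => by simp [CfsgLib.Classical.tv_apply]
        · have hrt : C.sys.Rt v ((-c) • B v) := (h v _ hv).2 ⟨-c, rfl⟩
          convert C.transvection_mem hrt using 1
          refine LinearEquiv.ext fun y => ?_
          rw [CfsgLib.Classical.tv_apply, LinearEquiv.transvection.apply, LinearMap.smul_apply,
            smul_eq_mul, CfsgLib.Classical.alt_swap hA y v, mul_neg, neg_mul]
      rw [CfsgLib.Classical.tvGroup_eq_top hA hB] at hle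
      exact hle (Subgroup.mem_top (⟨f, hf⟩ : CfsgLib.Classical.isomGroup B))

section Dual

omit [Finite V] in
/-- The contragredient. -/
theorem dual_exists_sep {x : V} (h : ∀ φ : Dual (ZMod p) V, φ x = 0) : x = 0 :=
  (forall_dual_apply_eq_zero_iff (ZMod p) x).1 h

/-- The contragredient action. -/
def contra : (V ≃ₗ[ZMod p] V) →* (Dual (ZMod p) V ≃ₗ[ZMod p] Dual (ZMod p) V) where
  toFun g := g.symm.dualMap
  map_one' := rfl
  map_mul' _ _ := rfl

omit [Finite V] in
theorem contra_apply (g : V ≃ₗ[ZMod p] V) (φ : Dual (ZMod p) V) (x : V) :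
    contra g φ x = φ (g.symm x) := rfl

omit [Finite V] in
theorem contra_injective : Function.Injective (contra (p := p) (V := V)) := fun g h e => by
  refine LinearEquiv.symm_bijective.1 (LinearEquiv.ext fun x => ?_)
  rw [← sub_eq_zero]
  refine dual_exists_sep (p := p) fun φ => ?_
  rw [map_sub, sub_eq_zero]
  exact LinearMap.congr_fun (LinearEquiv.congr_fun e φ) x

include C in
theorem Comp.dual : Comp (G.map (contra (p := p) (V := V))) (contra '' T) where
  odd := C.odd
  gen := by rw [C.gen, MonoidHom.map_closure]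
  nonempty := C.nonempty.image _
  isTv := by
    rintro _ ⟨t, ht, rfl⟩
    obtain ⟨v, φ, hv, hφ, hφv, et⟩ := C.isTv t ht
    refine ⟨φ, -Dual.eval (ZMod p) V v, hφ, fun e => hv (dual_exists_sep (p := p) fun ψ => ?_), ?_, fun ψ => ?_⟩
    · simpa using LinearMap.congr_fun e ψ
    · simp [hφv]
    · refine LinearMap.ext fun x => ?_
      obtain ⟨y, rfl⟩ := t.surjective x
      rw [contra_apply, LinearEquiv.symm_apply_apply, LinearMap.add_apply, LinearMap.smul_apply, et]
      simp [hφv]
      ring
  conn := by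
    rintro _ ⟨s, hs, rfl⟩ _ ⟨t, ht, rfl⟩
    refine (C.conn s hs t ht).lift contra fun a b ⟨ha, hb, hne⟩ => ?_
    exact ⟨Set.mem_image_of_mem _ ha, Set.mem_image_of_mem _ hb, fun e => hne (contra_injective (by
      rw [map_mul, map_mul, e]))⟩
  noUnip N hN hn hp1 := by
    have h := C.noUnip (G ⊓ N.comap contra) inf_le_left (fun g hg n hn' => ⟨G.mul_mem (G.mul_mem hg hn'.1) (G.inv_mem hg), by
        show contra (g * n * g⁻¹) ∈ N
        rw [map_mul, map_mul, map_inv]
        exact hn _ (Subgroup.mem_map_of_mem _ hg) _ hn'.2⟩)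
      fun n hn' => contra_injective (by rw [map_pow, map_one]; exact hp1 _ hn'.2)
    rw [Subgroup.eq_bot_iff_forall] at h ⊢
    intro x hx
    obtain ⟨g, hg, rfl⟩ := Subgroup.mem_map.1 (hN hx)
    rw [h g ⟨hg, hx⟩, map_one]

include C in
/-- The fixed space complements the moved space. -/
theorem Comp.sup_eq_top : moved T ⊔ fixedSpace G = ⊤ := by
  haveI : Finite (Dual (ZMod p) V) := Module.finite_of_finite (ZMod p)
  have hd := C.dual.disjoint
  set W' := moved (contra '' T)
  have hco : W'.dualCoannihilator ≤ fixedSpace G := by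
    intro x hx
    rw [C.gen, mem_fixedSpace_closure]
    intro t ht
    have h2 : t⁻¹ x = x := by
      rw [← sub_eq_zero]
      refine dual_exists_sep (p := p) fun φ => ?_
      rw [map_sub]
      exact (mem_dualCoannihilator x).1 hx _ (subset_span ⟨_, Set.mem_image_of_mem _ ht, φ, rfl⟩)
    conv_lhs => rw [← h2]
    exact t.apply_symm_apply x
  have hfix : fixedSpace (G.map (contra (p := p) (V := V))) ≥ (moved T).dualAnnihilator := by
    intro φ hφ
    rintro _ ⟨g, hg, rfl⟩
    refine LinearMap.ext fun x => ?_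
    rw [contra_apply, ← sub_eq_zero, ← map_sub]
    exact (mem_dualAnnihilator φ).1 hφ _ (C.sub_mem_moved (inv_mem hg) x)
  have h1 : Disjoint W' (moved T).dualAnnihilator := hd.mono_right hfix
  have h2 := finrank_sup_add_finrank_inf_eq W' (moved T).dualAnnihilator
  rw [h1.eq_bot, finrank_bot, add_zero] at h2
  have h3 := Submodule.finrank_le (W' ⊔ (moved T).dualAnnihilator)
  rw [Subspace.dual_finrank_eq] at h3
  have h4 := Subspace.finrank_add_finrank_dualAnnihilator_eq (moved T)
  have h5 := Subspace.finrank_add_finrank_dualCoannihilator_eq W'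
  have h6 := Submodule.finrank_mono hco
  have h7 := finrank_sup_add_finrank_inf_eq (moved T) (fixedSpace G)
  rw [C.disjoint.eq_bot, finrank_bot, add_zero] at h7
  exact eq_top_of_finrank_eq (le_antisymm (Submodule.finrank_le _) (by omega))

end Dual

end CfsgLib.Perm.Transv
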